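import Cfsg.Agent.Lib.FixedHalf.Main
import Cfsg.Agent.Lib.Basic
import Cfsg.Agent.Lib.Coprime
import Cfsg.Agent.Lib.CoprimeGen
import Cfsg.Agent.Lib.Elementary
import Cfsg.Agent.Lib.Components

/-! Maximal solvable subgroups generated by two conjugates of an element of prime order:
coprime action on an invariant subgroup is trivial. -/

set_option autoImplicit false
set_option maxHeartbeats 1000000
set_option linter.style.haveILetI false

namespace CfsgLib.MaxTwoGen

open Module Subgroup
open scoped commutatorElement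

/-- The sum of the fixed spaces of two conjugate generators of the acting group is proper. -/
theorem split_aux {A : Type*} [Group A] [Finite A] [Group.IsSolvable A] {p : ℕ} (hp : p.Prime) (hp3 : 3 < p)
    {x a : A} (hx : x ^ p = 1) (hx1 : x ≠ 1) (hgen : closure ({x, a * x * a⁻¹} : Set A) = ⊤)
    {k U : Type*} [Field k] [AddCommGroup U] [Module k U] [FiniteDimensional k U]
    (τ : Representation k A U) [τ.IsIrreducible] (hinj : Function.Injective τ)
    (hsplit : ∀ u : U, ∃ w, τ x w = w ∧ τ (a * x * a⁻¹) (u - w) = u - w) : False := by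
  have hnc : Subgroup.normalClosure ({x} : Set A) = ⊤ := by
    rw [← top_le_iff, ← hgen, Subgroup.closure_le]
    rintro z (rfl | rfl)
    · exact Subgroup.subset_normalClosure rfl
    · exact (Subgroup.normalClosure_normal (s := ({x} : Set A))).conj_mem x
        (Subgroup.subset_normalClosure (Set.mem_singleton x)) a
  have hhalf := CfsgLib.FixedHalf.half hp hp3 hx hx1 hnc τ hinj
  set W := LinearMap.ker (τ x - LinearMap.id) with hW
  set Y := LinearMap.ker (τ (a * x * a⁻¹) - LinearMap.id) with hY
  have hYW : Y ≤ W.map (τ a) := by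
    intro v hv
    rw [LinearMap.mem_ker, LinearMap.sub_apply, sub_eq_zero, LinearMap.id_apply] at hv
    refine ⟨τ a⁻¹ v, ?_, ?_⟩
    · rw [SetLike.mem_coe, LinearMap.mem_ker, LinearMap.sub_apply, sub_eq_zero, LinearMap.id_apply]
      conv_rhs => rw [← hv]
      rw [← Module.End.mul_apply, ← map_mul, ← Module.End.mul_apply, ← map_mul]
      congr 2
      group
    · rw [← Module.End.mul_apply, ← map_mul, mul_inv_cancel, map_one]; rfl
  have hdim : finrank k Y ≤ finrank k W :=
    (Submodule.finrank_mono hYW).trans (Submodule.finrank_map_le _ _)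
  have hsup : W ⊔ Y = ⊤ := by
    refine Submodule.eq_top_iff'.mpr fun u => ?_
    obtain ⟨w, hw, hw'⟩ := hsplit u
    refine Submodule.mem_sup.mpr ⟨w, ?_, u - w, ?_, by abel⟩
    · rw [LinearMap.mem_ker, LinearMap.sub_apply, sub_eq_zero, LinearMap.id_apply]; exact hw
    · rw [LinearMap.mem_ker, LinearMap.sub_apply, sub_eq_zero, LinearMap.id_apply]; exact hw'
  have h1 := Submodule.finrank_sup_add_finrank_inf_eq W Y
  rw [hsup, finrank_top] at h1
  omega

/-- A module cannot be the sum of the fixed spaces of the two generators. -/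
theorem split_false {A : Type*} [Group A] [Finite A] [Group.IsSolvable A] {p : ℕ} (hp : p.Prime) (hp3 : 3 < p)
    {x a : A} (hx : x ^ p = 1) (hgen : closure ({x, a * x * a⁻¹} : Set A) = ⊤)
    {k U : Type*} [Field k] [AddCommGroup U] [Module k U] [FiniteDimensional k U]
    (ρ : Representation k A U)
    (hirr : ∀ S : Submodule k U, (∀ g : A, ∀ v ∈ S, ρ g v ∈ S) → S = ⊥ ∨ S = ⊤)
    (hne : ρ x ≠ 1)
    (hsplit : ∀ u : U, ∃ w, ρ x w = w ∧ ρ (a * x * a⁻¹) (u - w) = u - w) : False := by
  have hker : ∀ g h : A, g⁻¹ * h ∈ ρ.ker → ρ g = ρ h := by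
    intro g h e
    have e' : ρ (g⁻¹ * h) = 1 := e
    rw [show h = g * (g⁻¹ * h) by group, map_mul, e', mul_one]
  let τ : Representation k (A ⧸ ρ.ker) U := QuotientGroup.lift ρ.ker ρ (fun _ h => h)
  have hτ : ∀ g : A, τ (QuotientGroup.mk g) = ρ g := fun g => rfl
  haveI : Nontrivial U := by
    by_contra h
    rw [not_nontrivial_iff_subsingleton] at h
    exact hne (LinearMap.ext fun v => Subsingleton.elim _ _)
  haveI : τ.IsIrreducible :=
    { exists_pair_ne := ⟨⊥, ⊤, fun h => by
        obtain ⟨w, hw⟩ := exists_ne (0 : U)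
        have h' : (⊥ : Submodule k U) = ⊤ := congrArg Subrepresentation.toSubmodule h
        exact hw ((Submodule.mem_bot k).mp (h' ▸ Submodule.mem_top))⟩
      eq_bot_or_eq_top := fun S => by
        rcases hirr S.toSubmodule (fun g v hv => S.apply_mem_toSubmodule (QuotientGroup.mk g) hv) with h | h
        · exact Or.inl (Subrepresentation.toSubmodule_injective h)
        · exact Or.inr (Subrepresentation.toSubmodule_injective h) }
  haveI : Group.IsSolvable (A ⧸ ρ.ker) := solvable_of_surjective (QuotientGroup.mk'_surjective ρ.ker)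
  refine split_aux hp hp3 (A := A ⧸ ρ.ker) (x := QuotientGroup.mk x) (a := QuotientGroup.mk a) ?_ ?_ ?_ τ ?_ ?_
  · rw [← QuotientGroup.mk_pow, hx, QuotientGroup.mk_one]
  · rw [Ne, QuotientGroup.eq_one_iff]; exact fun h => hne h
  · rw [← Subgroup.map_top_of_surjective (QuotientGroup.mk' ρ.ker) (QuotientGroup.mk'_surjective _), ← hgen,
      MonoidHom.map_closure, Set.image_pair]
    rfl
  · intro g h e
    induction g using QuotientGroup.induction_on with | _ g => ?_
    induction h using QuotientGroup.induction_on with | _ h => ?_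
    rw [QuotientGroup.eq, MonoidHom.mem_ker, map_mul, ← (show ρ g = ρ h from e), ← map_mul, inv_mul_cancel, map_one]
  · intro u
    obtain ⟨w, hw, hw'⟩ := hsplit u
    exact ⟨w, hw, hw'⟩

/-- The same for an elementary abelian group, written multiplicatively. -/
theorem mul_split_false {A : Type*} [Group A] [Finite A] [Group.IsSolvable A] {p : ℕ} (hp : p.Prime) (hp3 : 3 < p)
    {x a : A} (hx : x ^ p = 1) (hgen : closure ({x, a * x * a⁻¹} : Set A) = ⊤)
    {W : Type*} [CommGroup W] [Finite W] {r : ℕ} [Fact r.Prime] (hexp : ∀ w : W, w ^ r = 1)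
    (φ : A →* MulAut W)
    (hirr : ∀ T : Subgroup W, (∀ g, ∀ w ∈ T, φ g w ∈ T) → T = ⊥ ∨ T = ⊤)
    (hne : φ x ≠ 1)
    (hsplit : ∀ u : W, ∃ w, φ x w = w ∧ φ (a * x * a⁻¹) (u / w) = u / w) : False := by
  have hq' : ∀ w : Additive W, r • w = 0 := fun w => by
    rw [← ofMul_toMul w, ← ofMul_pow, hexp, ofMul_one]
  letI : Module (ZMod r) (Additive W) := AddCommGroup.zmodModule (n := r) hq'
  haveI : FiniteDimensional (ZMod r) (Additive W) := Module.Finite.of_finite
  let τ₁ : A →* Module.End (ZMod r) (Additive W) :=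
    { toFun := fun g => (MonoidHom.toAdditive (φ g).toMonoidHom).toZModLinearMap r
      map_one' := LinearMap.ext fun w => by
        show Additive.ofMul (φ 1 w.toMul) = w
        rw [map_one]; rfl
      map_mul' := fun g h => LinearMap.ext fun w => by
        show Additive.ofMul (φ (g * h) w.toMul) = Additive.ofMul (φ g (φ h w.toMul))
        rw [map_mul]; rfl }
  let τ : Representation (ZMod r) A (Additive W) := τ₁
  have hτ : ∀ (g : A) (w : W), τ g (Additive.ofMul w) = Additive.ofMul (φ g w) := fun g w => rfl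
  refine split_false hp hp3 hx hgen τ ?_ ?_ ?_
  · intro S hS
    rcases hirr S.toAddSubgroup.toSubgroup' (fun g w hw => by
      have := hS g (Additive.ofMul w) hw
      rwa [hτ] at this) with h | h
    · refine Or.inl ((Submodule.eq_bot_iff _).mpr fun w hw => ?_)
      have : w.toMul ∈ S.toAddSubgroup.toSubgroup' := hw
      rw [h, Subgroup.mem_bot] at this
      exact this
    · refine Or.inr (Submodule.eq_top_iff'.mpr fun w => ?_)
      have : w.toMul ∈ S.toAddSubgroup.toSubgroup' := h ▸ Subgroup.mem_top _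
      exact this
  · intro h
    refine hne (MulEquiv.ext fun w => ?_)
    have := hτ x w
    rw [h] at this
    exact (congrArg Additive.toMul this).symm
  · intro u
    obtain ⟨w, hw, hw'⟩ := hsplit u.toMul
    exact ⟨Additive.ofMul w, congrArg Additive.ofMul hw, congrArg Additive.ofMul hw'⟩

/-- Rearrangement in a commutative group. -/
theorem cocycle_shift {X : Type*} [CommGroup X] {w a b cf f g : X} (h : w / a * cf = f * (g / b)) :
    cf / (a / b) = f / (w / g) := by
  have e : cf = (w / a)⁻¹ * (f * (g / b)) := by rw [← h, inv_mul_cancel_left]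
  rw [e]
  simp [div_eq_mul_inv, mul_comm, mul_left_comm]

set_option maxHeartbeats 2000000 in
/-- A `q`-subgroup normalised by `A` inside `A` centralises every `A`-invariant `r`-subgroup. -/
theorem key {G : Type*} [Group G] [Finite G] {p : ℕ} (hp : p.Prime) (hp3 : 3 < p)
    {x a : G} {A Q : Subgroup G} (hx : x ^ p = 1) (haA : a ∈ A)
    (hA : A = closure ({x, a * x * a⁻¹} : Set G)) (hAs : Group.IsSolvable A)
    (hQA : Q ≤ A) (hAQ : A ≤ normalizer (Q : Set G))
    (hmax : ∀ B : Subgroup G, A ≤ B → Group.IsSolvable B →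
      (∃ b ∈ B, B = closure ({x, b * x * b⁻¹} : Set G)) → B = A)
    {q r : ℕ} [Fact q.Prime] [Fact r.Prime] (hqr : q ≠ r) (hQ : IsPGroup q Q) :
    ∀ R : Subgroup G, IsPGroup r R → A ≤ normalizer (R : Set G) → ⁅R, Q⁆ = ⊥ := by
  classical
  suffices H : ∀ n, ∀ R : Subgroup G, Nat.card R ≤ n → IsPGroup r R → A ≤ normalizer (R : Set G) → ⁅R, Q⁆ = ⊥ from
    fun R => H _ R le_rfl
  intro n
  induction n with
  | zero => intro R hn; exact absurd hn (Nat.not_le.mpr Nat.card_pos)
  | succ n ih =>
    intro R hn hR hAR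
    by_contra hne
    have hxA : x ∈ A := hA ▸ subset_closure (Or.inl rfl)
    have hQR : Q ≤ normalizer (R : Set G) := hQA.trans hAR
    have hcop : (Nat.card Q).Coprime (Nat.card R) := IsPGroup.coprime_card_of_ne q r hqr Q R hQ hR
    have hRs : Group.IsSolvable R := by haveI := hR.isNilpotent; infer_instance
    have hlt_card : ∀ M : Subgroup G, M < R → Nat.card M ≤ n := fun M hM =>
      Nat.lt_succ_iff.mp (lt_of_lt_of_le (lt_of_le_of_ne (Subgroup.card_le_of_le hM.le)
        fun e => hM.ne (Subgroup.eq_of_le_of_card_ge hM.le e.ge)) hn)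
    -- the commutator is everything
    have hRQ : ⁅R, Q⁆ = R := by
      by_contra h
      have hlt : ⁅R, Q⁆ < R := lt_of_le_of_ne (commutator_le_of_le_normalizer hQR) h
      have hinv : A ≤ normalizer ((⁅R, Q⁆ : Subgroup G) : Set G) := by
        intro g hg
        have e1 := Subgroup.map_commutator R Q (MulAut.conj g).toMonoidHom
        have hc : ∀ K : Subgroup G, g ∈ normalizer (K : Set G) → K.map (MulAut.conj g).toMonoidHom = K := by
          intro K hK
          ext z
          rw [Subgroup.mem_map_equiv, MulAut.conj_symm_apply]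
          exact (Subgroup.mem_normalizer_iff''.mp hK z).symm
        rw [hc R (hAR hg), hc Q (hAQ hg)] at e1
        rw [Subgroup.mem_normalizer_iff]
        intro z
        conv_rhs => rw [← e1]
        rw [Subgroup.mem_map_equiv, MulAut.conj_symm_apply, mul_assoc, mul_assoc, inv_mul_cancel, mul_one,
          inv_mul_cancel_left]
      have := ih _ (hlt_card _ hlt) (hR.to_le hlt.le) hinv
      rw [coprime_commutator_commutator hQR hcop (Or.inr hRs)] at this
      exact hne this
    have hR0 : R ≠ ⊥ := fun h => hne (by rw [h, Subgroup.commutator_bot_left])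
    -- a maximal invariant subgroup containing the Frattini subgroup
    set Φ := (frattini R).map R.subtype with hΦ
    have hΦR : Φ ≤ R := Subgroup.map_subtype_le _
    have hΦlt : Φ < R := by
      refine lt_of_le_of_ne hΦR fun h => ?_
      have ht : frattini R = ⊤ := by
        refine Subgroup.map_injective R.subtype_injective ?_
        rw [← MonoidHom.range_eq_map, Subgroup.range_subtype]
        exact h
      have hbot := frattini_nongenerating (K := (⊥ : Subgroup R)) (by rw [bot_sup_eq, ht])
      haveI : Nontrivial R := (Subgroup.nontrivial_iff_ne_bot R).mpr hR0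
      exact bot_ne_top hbot
    have hAΦ : A ≤ normalizer (Φ : Set G) := (le_normalizer_map_characteristic hAR _).1
    obtain ⟨M, ⟨hMlt, hMA, hΦM⟩, hMmax⟩ :=
      (Set.toFinite {M : Subgroup G | M < R ∧ A ≤ normalizer (M : Set G) ∧ Φ ≤ M}).exists_maximal
        ⟨Φ, hΦlt, hAΦ, le_rfl⟩
    have hcommM : ∀ u ∈ R, ∀ v ∈ R, ⁅u, v⁆ ∈ M := fun u hu v hv => hΦM ⟨⁅(⟨u, hu⟩ : R), ⟨v, hv⟩⁆,
      commutator_le_frattini_pGroup hR (Subgroup.commutator_mem_commutator (Subgroup.mem_top _) (Subgroup.mem_top _)), rfl⟩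
    have hpowM : ∀ u ∈ R, u ^ r ∈ M := fun u hu => hΦM ⟨(⟨u, hu⟩ : R) ^ r, pow_mem_frattini_pGroup hR _, rfl⟩
    have hMn : ∀ u ∈ R, ∀ m ∈ M, u * m * u⁻¹ ∈ M := by
      intro u hu m hm
      have := M.mul_mem (hcommM u hu m (hMlt.le hm)) hm
      simpa [commutatorElement_def] using this
    have hQM : ∀ m ∈ M, ∀ c ∈ Q, m * c = c * m := by
      intro m hm c hc
      have := ih _ (hlt_card _ hMlt) (hR.to_le hMlt.le) hMA
      rw [eq_bot_iff, Subgroup.commutator_le] at this
      exact commutatorElement_eq_one_iff_mul_comm.mp (Subgroup.mem_bot.mp (this m hm c hc))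
    -- the module
    set M' := M.subgroupOf R with hM'
    haveI : M'.Normal := ⟨fun m hm u => hMn u u.2 m hm⟩
    letI : CommGroup (R ⧸ M') :=
      { (inferInstance : Group (R ⧸ M')) with
        mul_comm := fun u v => by
          induction u using QuotientGroup.induction_on with | _ u => ?_
          induction v using QuotientGroup.induction_on with | _ v => ?_
          rw [← QuotientGroup.mk_mul, ← QuotientGroup.mk_mul, QuotientGroup.eq, hM', Subgroup.mem_subgroupOf]
          have := hcommM _ (R.inv_mem v.2) _ (R.inv_mem u.2)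
          simpa [commutatorElement_def, mul_assoc] using this }
    have htor : ∀ v : R ⧸ M', v ^ r = 1 := by
      intro v
      induction v using QuotientGroup.induction_on with | _ u => ?_
      rw [← QuotientGroup.mk_pow, QuotientGroup.eq_one_iff]
      exact hpowM u u.2
    let φ : A → (R →* R) := fun g =>
      { toFun := fun u => ⟨g * u * (g : G)⁻¹, (Subgroup.mem_normalizer_iff.mp (hAR g.2) u).mp u.2⟩
        map_one' := Subtype.ext (by simp)
        map_mul' := fun u v => Subtype.ext (by simp [mul_assoc]) }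
    have hφM : ∀ g : A, M' ≤ M'.comap (φ g) := fun g u hu =>
      (Subgroup.mem_normalizer_iff.mp (hMA g.2) u).mp hu
    let cl : R → R ⧸ M' := fun u => QuotientGroup.mk u
    have cl_mul : ∀ u v : R, cl (u * v) = cl u * cl v := fun u v => rfl
    have cl_inv : ∀ u : R, cl u⁻¹ = (cl u)⁻¹ := fun u => rfl
    have cl_eq1 : ∀ u : R, cl u = 1 ↔ (u : G) ∈ M := fun u => QuotientGroup.eq_one_iff u
    have hΦmul : ∀ (g h : A) (v : R ⧸ M'), QuotientGroup.map M' M' (φ (g * h)) (hφM _) v =
        QuotientGroup.map M' M' (φ g) (hφM _) (QuotientGroup.map M' M' (φ h) (hφM _) v) := by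
      intro g h v
      induction v using QuotientGroup.induction_on with | _ u => ?_
      show cl (φ (g * h) u) = cl (φ g (φ h u))
      congr 1
      exact Subtype.ext (by simp [φ, mul_assoc])
    have hΦone : ∀ v : R ⧸ M', QuotientGroup.map M' M' (φ 1) (hφM _) v = v := by
      intro v
      induction v using QuotientGroup.induction_on with | _ u => ?_
      show cl (φ 1 u) = cl u
      congr 1
      exact Subtype.ext (by simp [φ])
    let ψ₀ : A → MulAut (R ⧸ M') := fun g =>
      { toFun := QuotientGroup.map M' M' (φ g) (hφM g)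
        invFun := QuotientGroup.map M' M' (φ g⁻¹) (hφM g⁻¹)
        left_inv := fun v => by rw [← hΦmul]; simp only [inv_mul_cancel]; exact hΦone v
        right_inv := fun v => by rw [← hΦmul]; simp only [mul_inv_cancel]; exact hΦone v
        map_mul' := map_mul _ }
    let ψ : A →* MulAut (R ⧸ M') := MonoidHom.mk' ψ₀ fun g h => MulEquiv.ext fun v => hΦmul g h v
    have hψ : ∀ (g : A) (u : R), ψ g (cl u) = cl (φ g u) := fun g u => rfl
    -- irreducibility
    have hirr : ∀ S : Subgroup (R ⧸ M'), (∀ g : A, ∀ v ∈ S, ψ g v ∈ S) → S = ⊥ ∨ S = ⊤ := by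
      intro S hS
      set T : Subgroup G := (S.comap (QuotientGroup.mk' M')).map R.subtype with hT
      have hTA : A ≤ normalizer (T : Set G) := by
        have h1 : ∀ g ∈ A, ∀ u ∈ T, g * u * g⁻¹ ∈ T := by
          rintro g hg _ ⟨u, hu, rfl⟩
          refine ⟨φ ⟨g, hg⟩ u, ?_, rfl⟩
          have := hS ⟨g, hg⟩ (cl u) hu
          rw [hψ] at this
          exact this
        intro g hg
        rw [Subgroup.mem_normalizer_iff]
        intro u
        refine ⟨h1 g hg u, fun h => ?_⟩
        have := h1 g⁻¹ (A.inv_mem hg) _ h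
        simpa [mul_assoc] using this
      have hMT : M ≤ T := fun m hm =>
        ⟨⟨m, hMlt.le hm⟩, show cl ⟨m, hMlt.le hm⟩ ∈ S from ((cl_eq1 ⟨m, hMlt.le hm⟩).mpr hm).symm ▸ S.one_mem, rfl⟩
      have hTR : T ≤ R := Subgroup.map_subtype_le _
      rcases eq_or_lt_of_le hTR with h | h
      · refine Or.inr (top_le_iff.mp fun v _ => ?_)
        induction v using QuotientGroup.induction_on with | _ u => ?_
        obtain ⟨u', hu', he⟩ : (u : G) ∈ T := h.symm ▸ u.2
        obtain rfl : u' = u := Subtype.ext he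
        exact hu'
      · refine Or.inl (le_bot_iff.mp fun v hv => ?_)
        induction v using QuotientGroup.induction_on with | _ u => ?_
        exact Subgroup.mem_bot.mpr ((cl_eq1 u).mpr (hMmax ⟨h, hTA, hΦM.trans hMT⟩ hMT ⟨u, hv, rfl⟩))
    -- `Q` acts fixed-point-freely
    have hQU : ¬ ∀ c : A, (c : G) ∈ Q → ψ c = 1 := by
      intro h
      refine hMlt.not_ge (hRQ ▸ ?_)
      rw [Subgroup.commutator_le]
      intro u hu c hc
      have h1 : cl (φ ⟨c, hQA hc⟩ ⟨u, hu⟩) = cl ⟨u, hu⟩ := by rw [← hψ, h _ hc]; rfl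
      have h2 : cl ((⟨u, hu⟩ : R) * (φ ⟨c, hQA hc⟩ ⟨u, hu⟩)⁻¹) = 1 := by
        rw [cl_mul, cl_inv, h1, mul_inv_cancel]
      have := (cl_eq1 _).mp h2
      simpa [φ, commutatorElement_def, mul_assoc] using this
    have hgenA : closure ({⟨x, hxA⟩, ⟨a, haA⟩ * ⟨x, hxA⟩ * ⟨a, haA⟩⁻¹} : Set A) = ⊤ := by
      refine Subgroup.map_injective A.subtype_injective ?_
      rw [MonoidHom.map_closure, ← MonoidHom.range_eq_map, Subgroup.range_subtype, Set.image_pair]
      exact hA.symm
    have hψx : ψ ⟨x, hxA⟩ ≠ 1 := by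
      intro h
      refine hQU fun c _ => ?_
      have : closure ({⟨x, hxA⟩, ⟨a, haA⟩ * ⟨x, hxA⟩ * ⟨a, haA⟩⁻¹} : Set A) ≤ ψ.ker := by
        rw [Subgroup.closure_le]
        rintro z (rfl | rfl)
        · exact h
        · show ψ _ = 1
          rw [map_mul, map_mul, h, mul_one, ← map_mul, mul_inv_cancel, map_one]
      rw [hgenA] at this
      exact this (Subgroup.mem_top c)
    have hfix : ∀ v : R ⧸ M', (∀ c : A, (c : G) ∈ Q → ψ c v = v) → v = 1 := by
      let S : Subgroup (R ⧸ M') :=
        { carrier := {v | ∀ c : A, (c : G) ∈ Q → ψ c v = v}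
          one_mem' := fun c _ => map_one _
          mul_mem' := fun {u v} hu hv c hc => by rw [map_mul, hu c hc, hv c hc]
          inv_mem' := fun {u} hu c hc => by rw [map_inv, hu c hc] }
      have hS : ∀ g : A, ∀ v ∈ S, ψ g v ∈ S := fun g v hv c hc => by
        have hgc : ((g⁻¹ * c * g : A) : G) ∈ Q := (Subgroup.mem_normalizer_iff''.mp (hAQ g.2) c).mp hc
        calc ψ c (ψ g v) = ψ g (ψ (g⁻¹ * c * g) v) := by
              rw [← MulAut.mul_apply, ← map_mul, ← MulAut.mul_apply, ← map_mul, ← mul_assoc, mul_inv_cancel_left]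
          _ = ψ g v := by rw [hv _ hgc]
      rcases hirr S hS with h | h
      · intro v hv
        exact Subgroup.mem_bot.mp (h ▸ (hv : v ∈ S))
      · exact absurd (fun c hc => MulEquiv.ext fun v => (h ▸ Subgroup.mem_top v : v ∈ S) c hc) hQU
    -- split every vector
    refine mul_split_false (A := A) hp hp3 (x := ⟨x, hxA⟩) (a := ⟨a, haA⟩) (Subtype.ext hx) hgenA
      htor ψ hirr hψx ?_
    intro v
    obtain ⟨u0, rfl⟩ : ∃ u0, cl u0 = v := QuotientGroup.mk_surjective v
    set u : G := a⁻¹ * u0 * a with hu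
    have huR : u ∈ R := (Subgroup.mem_normalizer_iff''.mp (hAR haA) u0).mp u0.2
    set b : G := a * u with hb
    set H := closure ({x, b * x * b⁻¹} : Set G) with hH
    have hxH : x ∈ H := subset_closure (Or.inl rfl)
    -- every element of `A` is congruent to an element of `H`
    set Y : G := (u0 : G) * ((a * x * a⁻¹) * (u0 : G)⁻¹ * (a * x * a⁻¹)⁻¹) with hY
    have hyA : a * x * a⁻¹ ∈ A := A.mul_mem (A.mul_mem haA hxA) (A.inv_mem haA)
    have hYR : Y ∈ R := R.mul_mem u0.2 ((Subgroup.mem_normalizer_iff.mp (hAR hyA) _).mp (R.inv_mem u0.2))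
    have hyH : Y * (a * x * a⁻¹) ∈ H := by
      refine subset_closure (Or.inr ?_)
      show _ = b * x * b⁻¹
      simp only [hY, hb, hu]
      group
    have hex : ∀ g : A, ∃ e : R, (e : G) * g ∈ H := by
      intro g
      have : g ∈ closure ({⟨x, hxA⟩, ⟨a, haA⟩ * ⟨x, hxA⟩ * ⟨a, haA⟩⁻¹} : Set A) := hgenA ▸ Subgroup.mem_top g
      induction this using Subgroup.closure_induction with
      | mem z hz =>
        rcases hz with rfl | rfl
        · exact ⟨1, by simpa using hxH⟩
        · exact ⟨⟨Y, hYR⟩, hyH⟩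
      | one => exact ⟨1, by simp [H.one_mem]⟩
      | mul g h _ _ hg hh =>
        obtain ⟨e, he⟩ := hg
        obtain ⟨e', he'⟩ := hh
        refine ⟨e * φ g e', ?_⟩
        have := H.mul_mem he he'
        simpa [φ, mul_assoc] using this
      | inv g _ hg =>
        obtain ⟨e, he⟩ := hg
        refine ⟨φ g⁻¹ e⁻¹, ?_⟩
        have := H.inv_mem he
        simpa [φ, mul_assoc] using this
    by_cases hHM : ∀ e ∈ R, e ∈ H → e ∈ M
    swap
    · -- then `H` would be a larger solvable subgroup of the same kind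
      exfalso
      simp only [not_forall, exists_prop] at hHM
      obtain ⟨e0, he0R, he0H, he0M⟩ := hHM
      let T : Subgroup G :=
        { carrier := {t | ∃ h ∈ H ⊓ R, ∃ m ∈ M, t = h * m}
          one_mem' := ⟨1, one_mem _, 1, one_mem _, (one_mul 1).symm⟩
          mul_mem' := by
            rintro _ _ ⟨h, hh, m, hm, rfl⟩ ⟨h', hh', m', hm', rfl⟩
            refine ⟨h * h', mul_mem hh hh', h'⁻¹ * m * h' * m', M.mul_mem ?_ hm', by group⟩
            simpa using hMn h'⁻¹ (R.inv_mem hh'.2) m hm
          inv_mem' := by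
            rintro _ ⟨h, hh, m, hm, rfl⟩
            exact ⟨h⁻¹, inv_mem hh, h * m⁻¹ * h⁻¹, hMn h hh.2 _ (M.inv_mem hm), by group⟩ }
      have hTR : T ≤ R := by rintro _ ⟨h, hh, m, hm, rfl⟩; exact R.mul_mem hh.2 (hMlt.le hm)
      have hMT : M ≤ T := fun m hm => ⟨1, one_mem _, m, hm, (one_mul m).symm⟩
      have hTA : A ≤ normalizer (T : Set G) := by
        have h1 : ∀ g ∈ A, ∀ t ∈ T, g * t * g⁻¹ ∈ T := by
          rintro g hg _ ⟨h, hh, m, hm, rfl⟩
          obtain ⟨e, he⟩ := hex ⟨g, hg⟩
          have hgm : g * m * g⁻¹ ∈ M := (Subgroup.mem_normalizer_iff.mp (hMA hg) m).mp hm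
          have hgh : g * h * g⁻¹ ∈ R := (Subgroup.mem_normalizer_iff.mp (hAR hg) h).mp hh.2
          have hk : (e : G) * (g * h * g⁻¹) * (e : G)⁻¹ ∈ H ⊓ R := ⟨by
            have := H.mul_mem (H.mul_mem he hh.1) (H.inv_mem he)
            simpa [mul_assoc] using this, R.mul_mem (R.mul_mem e.2 hgh) (R.inv_mem e.2)⟩
          have hkm : ((e : G) * (g * h * g⁻¹) * (e : G)⁻¹)⁻¹ * (g * h * g⁻¹) ∈ M := by
            have := hcommM e e.2 _ (R.inv_mem hgh)
            simpa [commutatorElement_def, mul_assoc] using this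
          exact ⟨_, hk, _, M.mul_mem hkm hgm, by group⟩
        intro g hg
        rw [Subgroup.mem_normalizer_iff]
        intro t
        refine ⟨h1 g hg t, fun h => ?_⟩
        have := h1 g⁻¹ (A.inv_mem hg) _ h
        simpa [mul_assoc] using this
      have hTeq : T = R := by
        by_contra h
        exact he0M (hMmax ⟨lt_of_le_of_ne hTR h, hTA, hΦM.trans hMT⟩ hMT
          ⟨e0, ⟨he0H, he0R⟩, 1, one_mem _, (mul_one e0).symm⟩)
      have hdec : ∀ t ∈ R, ∃ h ∈ H ⊓ R, ∃ m ∈ M, t = h * m := fun t ht => (hTeq.symm ▸ ht : t ∈ T)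
      have hQH : Q ≤ H := by
        intro c hc
        obtain ⟨e, he⟩ := hex ⟨c, hQA hc⟩
        obtain ⟨h, hh, m, hm, hem⟩ := hdec e e.2
        have hmc : m * c ∈ H := by
          have := H.mul_mem (H.inv_mem hh.1) he
          rw [hem] at this
          simpa [mul_assoc] using this
        have hcm : (orderOf m).Coprime (orderOf c) :=
          (hcop.symm.coprime_dvd_left (Subgroup.orderOf_dvd_natCard R (hMlt.le hm))).coprime_dvd_right
            (Subgroup.orderOf_dvd_natCard Q hc)
        obtain ⟨N, hN1, hN2⟩ := Nat.chineseRemainder hcm 0 1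
        have := H.pow_mem hmc N
        rwa [(show Commute m c from hQM m hm c hc).mul_pow, pow_eq_pow_iff_modEq.mpr hN1,
          pow_eq_pow_iff_modEq.mpr hN2, pow_zero, one_mul, pow_one] at this
      have hRH : R ≤ H := by
        rw [← hRQ, Subgroup.commutator_le]
        intro t ht c hc
        obtain ⟨h, hh, m, hm, rfl⟩ := hdec t ht
        have e1 : ⁅h * m, c⁆ = ⁅h, c⁆ := by
          calc ⁅h * m, c⁆ = h * (m * c) * m⁻¹ * h⁻¹ * c⁻¹ := by simp [commutatorElement_def, mul_assoc]
            _ = ⁅h, c⁆ := by rw [hQM m hm c hc]; simp [commutatorElement_def, mul_assoc]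
        rw [e1, commutatorElement_def]
        exact H.mul_mem (H.mul_mem (H.mul_mem hh.1 (hQH hc)) (H.inv_mem hh.1)) (H.inv_mem (hQH hc))
      have hAH : A ≤ H := fun g hg => by
        obtain ⟨e, he⟩ := hex ⟨g, hg⟩
        have := H.mul_mem (H.inv_mem (hRH e.2)) he
        simpa using this
      have hbH : b ∈ H := H.mul_mem (hAH haA) (hRH huR)
      have hHle : H ≤ A ⊔ R := by
        have hbAR : b ∈ A ⊔ R := Subgroup.mul_mem_sup haA huR
        rw [hH, Subgroup.closure_le]
        rintro z (rfl | rfl)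
        · exact Subgroup.mem_sup_left hxA
        · exact mul_mem (mul_mem hbAR (Subgroup.mem_sup_left hxA)) (inv_mem hbAR)
      have hHs : Group.IsSolvable H := by
        haveI : Group.IsSolvable ↥(A ⊔ R : Subgroup G) := by
          haveI := hAs
          haveI := hRs
          haveI hn : (R.subgroupOf (A ⊔ R)).Normal :=
            Subgroup.normal_subgroupOf_of_le_normalizer (sup_le hAR Subgroup.le_normalizer)
          haveI : Group.IsSolvable (R.subgroupOf (A ⊔ R)) := solvable_of_solvable_injective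
            (f := (Subgroup.subgroupOfEquivOfLe (le_sup_right : R ≤ A ⊔ R)).toMonoidHom)
            (MulEquiv.injective _)
          let f : A →* ↥(A ⊔ R : Subgroup G) ⧸ R.subgroupOf (A ⊔ R) :=
            (QuotientGroup.mk' _).comp (Subgroup.inclusion le_sup_left)
          have hf : Function.Surjective f := by
            intro z
            obtain ⟨z, rfl⟩ := QuotientGroup.mk'_surjective _ z
            obtain ⟨e, he, g, hg, hge⟩ := mem_sup_of_le_normalizer hAR (sup_comm A R ▸ z.2 : (z : G) ∈ R ⊔ A)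
            refine ⟨⟨g, hg⟩, (QuotientGroup.eq).mpr ?_⟩
            rw [Subgroup.mem_subgroupOf]
            show g⁻¹ * (z : G) ∈ R
            rw [← hge, ← mul_assoc]
            exact (Subgroup.mem_normalizer_iff''.mp (hAR hg) e).mp he
          haveI : Group.IsSolvable (↥(A ⊔ R : Subgroup G) ⧸ R.subgroupOf (A ⊔ R)) := solvable_of_surjective hf
          exact solvable_of_ker_le_range (R.subgroupOf (A ⊔ R)).subtype (QuotientGroup.mk' (R.subgroupOf (A ⊔ R)))
            (le_of_eq (by rw [QuotientGroup.ker_mk', Subgroup.range_subtype]))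
        exact solvable_of_solvable_injective (Subgroup.inclusion_injective hHle)
      have hRA : R ≤ A := (hmax H hAH hHs ⟨b, hbH, rfl⟩) ▸ hRH
      refine hne (eq_bot_iff.mpr ?_)
      have h1 : ⁅R, Q⁆ ≤ R ⊓ Q := le_inf (commutator_le_of_le_normalizer hQR)
        (by rw [Subgroup.commutator_comm]; exact commutator_le_of_le_normalizer (hRA.trans hAQ))
      rwa [Subgroup.inf_eq_bot_of_coprime hcop.symm] at h1
    -- otherwise `H` gives a cocycle
    choose e he using hex
    have huniq : ∀ (g : A) (t : R), (t : G) * g ∈ H → cl t = cl (e g) := by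
      intro g t ht
      have h1 : ((t * (e g)⁻¹ : R) : G) ∈ H := by
        have := H.mul_mem ht (H.inv_mem (he g))
        simpa [mul_assoc] using this
      have h2 := (cl_eq1 _).mpr (hHM _ (t * (e g)⁻¹).2 h1)
      rw [cl_mul, cl_inv, mul_inv_eq_one] at h2
      exact h2
    let f : A → R ⧸ M' := fun g => cl (e g)
    have hf : ∀ g h : A, f (g * h) = f g * ψ g (f h) := by
      intro g h
      show cl (e (g * h)) = _
      rw [hψ, ← cl_mul]
      refine (huniq _ _ ?_).symm
      have := H.mul_mem (he g) (he h)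
      simpa [φ, mul_assoc] using this
    have hfx : f ⟨x, hxA⟩ = 1 := by
      show cl (e _) = 1
      rw [← huniq ⟨x, hxA⟩ 1 (by simpa using hxH)]
      exact (cl_eq1 _).mpr M.one_mem
    set y : A := ⟨a, haA⟩ * ⟨x, hxA⟩ * ⟨a, haA⟩⁻¹ with hy
    have hfy : f y = cl u0 / ψ y (cl u0) := by
      show cl (e _) = _
      rw [← huniq y ⟨Y, hYR⟩ hyH, div_eq_mul_inv, hψ, ← cl_inv, ← cl_mul]
      congr 1
      exact Subtype.ext (by simp [φ, hY, hy, mul_assoc])
    let Q' := Q.subgroupOf A
    haveI : Fintype Q' := Fintype.ofFinite _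
    have hn0 : (Fintype.card Q').Coprime r := by
      rw [← Nat.card_eq_fintype_card, Nat.card_congr (Subgroup.subgroupOfEquivOfLe hQA).toEquiv]
      obtain ⟨j, hj⟩ := IsPGroup.iff_card.mp hQ
      rw [hj]
      exact ((Nat.coprime_primes Fact.out Fact.out).mpr hqr).pow_left j
    obtain ⟨N, -, hN⟩ := Nat.exists_mul_mod_eq_one_of_coprime hn0 (Fact.out : r.Prime).one_lt
    let w : R ⧸ M' := (∏ c : Q', f c) ^ N
    have hw : ∀ c : A, (c : G) ∈ Q → f c = w / ψ c w := by
      intro c hc
      have h1 : ∏ d : Q', f d = ∏ d : Q', f (c * d) :=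
        (Equiv.prod_comp (Equiv.mulLeft (⟨c, hc⟩ : Q')) (fun d : Q' => f d)).symm
      simp only [hf, Finset.prod_mul_distrib, Finset.prod_const, Finset.card_univ, ← map_prod] at h1
      show f c = (∏ d : Q', f d) ^ N / ψ c ((∏ d : Q', f d) ^ N)
      rw [map_pow, ← div_pow]
      nth_rw 1 [h1]
      rw [mul_div_cancel_right, ← pow_mul, pow_eq_pow_mod _ (htor (f c)), hN, pow_one]
    have hall : ∀ g : A, f g = w / ψ g w := by
      intro g
      rw [← div_eq_one]
      refine hfix _ fun c hc => ?_
      set d : A := g⁻¹ * c * g with hd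
      have hdQ : (d : G) ∈ Q := (Subgroup.mem_normalizer_iff''.mp (hAQ g.2) c).mp hc
      have e1 := hf c g
      have e2 := hf g d
      rw [show g * d = c * g by rw [hd, ← mul_assoc, ← mul_assoc, mul_inv_cancel, one_mul], e1, hw d hdQ, hw c hc] at e2
      have e3 : ψ g (ψ d w) = ψ c (ψ g w) := by
        rw [← MulAut.mul_apply, ← map_mul, ← MulAut.mul_apply, ← map_mul, hd, ← mul_assoc, ← mul_assoc,
          mul_inv_cancel, one_mul]
      rw [map_div, e3] at e2
      rw [map_div, map_div, cocycle_shift e2]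
    refine ⟨w, ?_, ?_⟩
    · have := hall ⟨x, hxA⟩
      rw [hfx, eq_comm, div_eq_one] at this
      exact this.symm
    · have := hall y
      rw [hfy] at this
      rw [map_div]
      rw [div_eq_div_iff_mul_eq_mul] at this ⊢
      rw [mul_comm]
      exact this.symm

end CfsgLib.MaxTwoGen
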