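import Cfsg.Agent.Lib.MaxTwoGen.Basic

/-! The Fitting subgroup of a maximal solvable two-conjugate-generated subgroup and invariant nilpotent subgroups. -/

set_option autoImplicit false

namespace CfsgLib.MaxTwoGen

open Cfsg Subgroup
open scoped commutatorElement

/-- `F(A) V` is nilpotent. -/
theorem fitting_sup_nilpotent {G : Type*} [Group G] [Finite G]
    {p : ℕ} [Fact p.Prime] (hp : 3 < p) (P : Subgroup G) (hP : Nat.card P = p) (A : Subgroup G)
    (hA : Group.IsSolvable ↥A ∧ ∃ a ∈ A, A = P ⊔ P.map (MulAut.conj a).toMonoidHom)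
    (hmax : ∀ B : Subgroup G, A ≤ B → Group.IsSolvable ↥B →
      (∃ b ∈ B, B = P ⊔ P.map (MulAut.conj b).toMonoidHom) → B = A)
    (V : Subgroup G) (hV : Group.IsNilpotent ↥V) (hAV : A ≤ Subgroup.normalizer (V : Set G)) :
    Group.IsNilpotent ↥((fittingSubgroup ↥A).map A.subtype ⊔ V) := by
  classical
  obtain ⟨hAs, a, haA, hAeq⟩ := hA
  obtain ⟨x, hx⟩ : ∃ x, Subgroup.zpowers x = P := by
    haveI := isCyclic_of_prime_card hP
    obtain ⟨g, hg⟩ := IsCyclic.exists_generator (α := P)
    refine ⟨g, le_antisymm ((Subgroup.zpowers_le).mpr g.2) fun z hz => ?_⟩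
    obtain ⟨i, hi⟩ := Subgroup.mem_zpowers_iff.mp (hg ⟨z, hz⟩)
    exact ⟨i, by have := congrArg Subtype.val hi; simpa using this⟩
  have hxp : x ^ p = 1 := by
    refine orderOf_dvd_iff_pow_eq_one.mp ?_
    exact hP ▸ Subgroup.orderOf_dvd_natCard P (hx ▸ Subgroup.mem_zpowers x)
  have hgen : ∀ b : G, P ⊔ P.map (MulAut.conj b).toMonoidHom = closure ({x, b * x * b⁻¹} : Set G) := by
    intro b
    rw [← hx, MonoidHom.map_zpowers, Set.insert_eq, Subgroup.closure_union, ← Subgroup.zpowers_eq_closure,
      ← Subgroup.zpowers_eq_closure]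
    simp
  have hmax' : ∀ B : Subgroup G, A ≤ B → Group.IsSolvable B →
      (∃ b ∈ B, B = closure ({x, b * x * b⁻¹} : Set G)) → B = A :=
    fun B h1 h2 ⟨b, hb, hB⟩ => hmax B h1 h2 ⟨b, hb, (hgen b).symm ▸ hB⟩
  have hAeq' : A = closure ({x, a * x * a⁻¹} : Set G) := hAeq.trans (hgen a)
  let F : Nat.Primes → Subgroup G := fun l => (pCore (l : ℕ) A).map A.subtype
  let W : Nat.Primes → Subgroup G := fun l => (pCore (l : ℕ) V).map V.subtype
  have hFA : ∀ l, F l ≤ A := fun l => Subgroup.map_subtype_le _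
  have hWV : ∀ l, W l ≤ V := fun l => Subgroup.map_subtype_le _
  have hFn : ∀ l, A ≤ normalizer (F l : Set G) := fun l =>
    (le_normalizer_map_characteristic (A := A) (K := A) Subgroup.le_normalizer (pCore (l : ℕ) A)).2
  have hWn : ∀ l, A ≤ normalizer (W l : Set G) ∧ V ≤ normalizer (W l : Set G) := fun l =>
    le_normalizer_map_characteristic hAV (pCore (l : ℕ) V)
  have hFp : ∀ l : Nat.Primes, IsPGroup (l : ℕ) (F l) := fun l => by
    haveI := Fact.mk l.2
    exact (isPGroup_pCore (G := A) (l : ℕ)).map A.subtype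
  have hWp : ∀ l : Nat.Primes, IsPGroup (l : ℕ) (W l) := fun l => by
    haveI := Fact.mk l.2
    exact (isPGroup_pCore (G := V) (l : ℕ)).map V.subtype
  have hcomm : ∀ l m : Nat.Primes, l ≠ m → ∀ f ∈ F l, ∀ v ∈ W m, f * v = v * f := by
    intro l m hlm f hf v hv
    haveI := Fact.mk l.2
    haveI := Fact.mk m.2
    have h := key (Fact.out : p.Prime) hp hxp haA hAeq' hAs (hFA l) (hFn l) hmax'
      (fun e : (l : ℕ) = m => hlm (Subtype.ext e)) (hFp l) (W m) (hWp m) (hWn m).1
    rw [eq_bot_iff, Subgroup.commutator_le] at h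
    exact (commutatorElement_eq_one_iff_mul_comm.mp (Subgroup.mem_bot.mp (h v hv f hf))).symm
  set K := (fittingSubgroup ↥A).map A.subtype ⊔ V with hK
  have hFF : (fittingSubgroup ↥A).map A.subtype = ⨆ l, F l := by
    rw [fittingSubgroup_eq_iSup_pCore, Subgroup.map_iSup]
  have hVV : V = ⨆ l, W l := by
    refine le_antisymm ?_ (iSup_le hWV)
    intro v hv
    have h : (⊤ : Subgroup V) ≤ ⨆ l : Nat.Primes, pCore (l : ℕ) V := by
      haveI := hV
      exact nilpotent_le_iSup_pCore ⊤ inferInstance
    have := Subgroup.mem_map_of_mem V.subtype (h (Subgroup.mem_top ⟨v, hv⟩))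
    rw [Subgroup.map_iSup] at this
    exact this
  let T : Nat.Primes → Subgroup G := fun l => F l ⊔ W l
  have hTK : ∀ l, T l ≤ K := fun l =>
    sup_le_sup (hFF ▸ le_iSup F l) (hWV l)
  have hKT : K = ⨆ l, T l := by
    refine le_antisymm ?_ (iSup_le hTK)
    rw [hK, hFF]
    refine sup_le (iSup_mono fun l => le_sup_left) ?_
    conv_lhs => rw [hVV]
    exact iSup_mono fun l => le_sup_right
  have hTp : ∀ l : Nat.Primes, IsPGroup (l : ℕ) (T l) := fun l =>
    IsPGroup.to_sup_of_normal_right' (hFp l) (hWp l) ((hFA l).trans (hWn l).1)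
  have hTn : ∀ l, K ≤ normalizer (T l : Set G) := by
    intro l
    have hconj : ∀ k ∈ K, ∀ t ∈ T l, k * t * k⁻¹ ∈ T l := by
      suffices h : K ≤ normalizer (T l : Set G) by
        exact fun k hk t ht => (Subgroup.mem_normalizer_iff.mp (h hk) t).mp ht
      have hA' : A ≤ normalizer (T l : Set G) := by
        intro g hg
        refine Subgroup.mem_normalizer_fintype ?_
        intro t ht
        have hle : T l ≤ (T l).comap (MulAut.conj g).toMonoidHom := sup_le
          (fun u hu => Subgroup.mem_sup_left ((Subgroup.mem_normalizer_iff.mp (hFn l hg) u).mp hu))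
          (fun u hu => Subgroup.mem_sup_right ((Subgroup.mem_normalizer_iff.mp ((hWn l).1 hg) u).mp hu))
        exact hle ht
      refine sup_le ((Subgroup.map_subtype_le _).trans hA') ?_
      rw [hVV]
      refine iSup_le fun m => ?_
      rcases eq_or_ne l m with rfl | hlm
      · exact le_sup_right.trans Subgroup.le_normalizer
      intro g hg
      refine Subgroup.mem_normalizer_fintype ?_
      intro t ht
      have hle : T l ≤ (T l).comap (MulAut.conj g).toMonoidHom := sup_le
        (fun u hu => by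
          show g * u * g⁻¹ ∈ T l
          rw [← hcomm l m hlm u hu g hg, mul_inv_cancel_right]
          exact Subgroup.mem_sup_left hu)
        (fun u hu => Subgroup.mem_sup_right ((Subgroup.mem_normalizer_iff.mp ((hWn l).2 (hWV m hg)) u).mp hu))
      exact hle ht
    intro k hk
    exact Subgroup.mem_normalizer_fintype fun t ht => hconj k hk t ht
  have htop : (⊤ : Subgroup K) ≤ fittingSubgroup K := by
    have e : (⨆ l, (T l).subgroupOf K).map K.subtype = K := by
      rw [Subgroup.map_iSup]
      simp only [Subgroup.map_subgroupOf_eq_of_le (hTK _)]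
      exact hKT.symm
    have h1 : (⊤ : Subgroup K) = ⨆ l, (T l).subgroupOf K := by
      refine Subgroup.map_injective K.subtype_injective ?_
      rw [e, ← MonoidHom.range_eq_map, Subgroup.range_subtype]
    rw [h1]
    refine iSup_le fun l => ?_
    haveI := Fact.mk l.2
    haveI : ((T l).subgroupOf K).Normal := Subgroup.normal_subgroupOf_of_le_normalizer (hTn l)
    exact le_fittingSubgroup ((hTp l).comap_subtype.isNilpotent)
  haveI := isNilpotent_fittingSubgroup (G := K)
  haveI : Group.IsNilpotent (⊤ : Subgroup K) := by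
    rw [top_le_iff.mp htop] at *
    infer_instance
  exact Group.nilpotent_of_mulEquiv Subgroup.topEquiv

end CfsgLib.MaxTwoGen
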